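import Cfsg.Agent.Lib.GW.DGroup.Outer

/-!
# The inner automorphisms of `PSL(2, p)` have index at most two (owner: helper7)
-/

set_option autoImplicit false

namespace CfsgLib.AlmostCyclic

open Matrix CfsgLib.Known.AutPSL

variable {p : ℕ} [Fact p.Prime]

theorem innDiag_surjective : Function.Surjective (innDiag 2 (ZMod p)) := by
  intro α
  obtain ⟨g, σ, rfl⟩ := CfsgLib.GW.KFactsProof.exists_semilin α
  refine ⟨g, ?_⟩
  rw [innDiag_apply]
  congr 1
  refine RingEquiv.ext fun x => ?_
  obtain ⟨k, rfl⟩ := ZMod.natCast_zmod_surjective (n := p) x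
  simp

theorem index_inn_psl_dvd :
    (MulAut.conj (G := ProjectiveSpecialLinearGroup (Fin 2) (ZMod p))).range.index ∣ 2 := by
  classical
  let D : GL (Fin 2) (ZMod p) →* (ZMod p)ˣ := GeneralLinearGroup.det
  let Sq : Subgroup (ZMod p)ˣ := (powMonoidHom 2 : (ZMod p)ˣ →* (ZMod p)ˣ).range
  have hle : Sq.comap D ≤
      (MulAut.conj (G := ProjectiveSpecialLinearGroup (Fin 2) (ZMod p))).range.comap
        (innDiag 2 (ZMod p)) := by
    rintro g ⟨c, hc⟩
    exact (CfsgLib.GW.DGroup.innDiag_mem_inn_iff g).2 ⟨c, hc.symm⟩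
  have h1 := Subgroup.index_dvd_of_le hle
  rw [Subgroup.index_comap_of_surjective _ innDiag_surjective] at h1
  have h2 : (Sq.comap D).index ∣ Sq.index := by
    rw [Subgroup.index_comap]
    exact Subgroup.relIndex_dvd_index_of_normal _ _
  have h3 : Sq.index ∣ 2 := by
    rw [IsCyclic.index_powMonoidHom_range]
    exact Nat.gcd_dvd_right _ _
  exact h1.trans (h2.trans h3)

end CfsgLib.AlmostCyclic
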