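import Mathlib.GroupTheory.SpecificGroups.ZGroup
import Mathlib.GroupTheory.Sylow
import Mathlib.GroupTheory.SchurZassenhaus
import Mathlib.GroupTheory.SpecificGroups.KleinFour

/-!
# Groups whose Sylow subgroups are cyclic or almost cyclic (owner: helper7)

`Hyp G`: the Sylow subgroups of odd order are cyclic and every 2-subgroup has a cyclic subgroup of
index at most two. The property passes to subgroups and to quotients.
-/

set_option autoImplicit false

namespace CfsgLib.AlmostCyclic

open Subgroup

variable {G : Type*} [Group G]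

/-- A cyclic subgroup of index at most two. -/
def TwoCyc (P : Type*) [Group P] : Prop := ∃ C : Subgroup P, IsCyclic C ∧ C.index ∣ 2

theorem twoCyc_of_injective {P R : Type*} [Group P] [Group R] [Finite R] (h : TwoCyc R) (f : P →* R)
    (hf : Function.Injective f) : TwoCyc P := by
  obtain ⟨C, hC, hi⟩ := h
  have := Finite.of_injective f hf
  refine ⟨C.comap f, ?_, ?_⟩
  · have hg : Function.Injective (f.subgroupComap C) := fun a b e =>
      Subtype.ext (hf (congrArg Subtype.val e))
    exact isCyclic_of_injective _ hg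
  · rw [index_comap]
    have h1 : C.relIndex f.range ≤ C.index := by
      rw [← relIndex_top_right]
      exact relIndex_le_of_le_right le_top (by rw [relIndex_top_right]; exact index_ne_zero_of_finite)
    have h2 := Nat.le_of_dvd two_pos hi
    have h3 : 0 < C.relIndex f.range := Nat.pos_of_ne_zero (C.subgroupOf f.range).index_ne_zero_of_finite
    have h4 : C.relIndex f.range ≤ 2 := h1.trans h2
    interval_cases C.relIndex f.range <;> norm_num

theorem twoCyc_of_surjective {P R : Type*} [Group P] [Group R] (h : TwoCyc P) (f : P →* R)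
    (hf : Function.Surjective f) : TwoCyc R := by
  obtain ⟨C, hC, hi⟩ := h
  exact ⟨C.map f, isCyclic_of_surjective _ (f.subgroupMap_surjective C), (C.index_map_dvd hf).trans hi⟩

/-- The hypothesis. -/
structure Hyp (G : Type*) [Group G] : Prop where
  odd : ∀ p : ℕ, p.Prime → p ≠ 2 → ∀ P : Subgroup G, IsPGroup p P → IsCyclic P
  two : ∀ P : Subgroup G, IsPGroup 2 P → TwoCyc P

theorem Hyp.of_sylow [Finite G] (hodd : ∀ p : ℕ, p.Prime → p ≠ 2 → ∀ P : Sylow p G, IsCyclic P)
    (h2 : ∀ S : Sylow 2 G, TwoCyc (S : Subgroup G)) : Hyp G := by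
  constructor
  · intro p hp hp2 P hP
    have : Fact p.Prime := ⟨hp⟩
    obtain ⟨S, hS⟩ := hP.exists_le_sylow
    have : IsCyclic (S : Subgroup G) := hodd p hp hp2 S
    exact isCyclic_of_injective (inclusion hS) (inclusion_injective hS)
  · intro P hP
    obtain ⟨S, hS⟩ := hP.exists_le_sylow
    exact twoCyc_of_injective (h2 S) (inclusion hS) (inclusion_injective hS)

theorem Hyp.subgroup (h : Hyp G) (H : Subgroup G) [Finite G] : Hyp H := by
  constructor
  · intro p hp hp2 P hP
    have := h.odd p hp hp2 _ (hP.map H.subtype)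
    exact isCyclic_of_injective (P.equivMapOfInjective H.subtype H.subtype_injective).toMonoidHom
      (MulEquiv.injective _)
  · intro P hP
    exact twoCyc_of_injective (h.two _ (hP.map H.subtype))
      (P.equivMapOfInjective H.subtype H.subtype_injective).toMonoidHom (MulEquiv.injective _)

theorem Hyp.of_surjective [Finite G] (h : Hyp G) {H : Type*} [Group H] (f : G →* H)
    (hf : Function.Surjective f) : Hyp H := by
  have : Finite H := Finite.of_surjective f hf
  have key : ∀ (p : ℕ) [Fact p.Prime] (P : Sylow p H), ∃ T : Subgroup G, IsPGroup p T ∧ T.map f = P := by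
    intro p _ P
    obtain ⟨T₀⟩ := (inferInstance : Nonempty (Sylow p G))
    obtain ⟨x, hx⟩ := MulAction.exists_smul_eq H (T₀.mapSurjective hf) P
    obtain ⟨g, rfl⟩ := hf x
    refine ⟨(T₀ : Subgroup G).map (MulAut.conj g).toMonoidHom, T₀.isPGroup'.map _, ?_⟩
    rw [← hx, Sylow.coe_subgroup_smul, Sylow.coe_mapSurjective, Subgroup.pointwise_smul_def, map_map]
    erw [map_map]
    congr 1
    ext a
    simp
  refine Hyp.of_sylow (fun p hp hp2 P => ?_) (fun P => ?_)
  · have : Fact p.Prime := ⟨hp⟩
    obtain ⟨T, hT, hmap⟩ := key p P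
    have := h.odd p hp hp2 T hT
    have hc : IsCyclic (T.map f) := isCyclic_of_surjective _ (f.subgroupMap_surjective T)
    rwa [hmap] at hc
  · have : Fact (Nat.Prime 2) := ⟨Nat.prime_two⟩
    obtain ⟨T, hT, hmap⟩ := key 2 P
    have hc := twoCyc_of_surjective (h.two T hT) (f.subgroupMap T) (f.subgroupMap_surjective T)
    rwa [hmap] at hc

/-- No elementary abelian subgroup of order eight. -/
theorem Hyp.card_le_four [Finite G] (h : Hyp G) {E : Subgroup G} (hE : ∀ x ∈ E, x * x = 1) : Nat.card E ≤ 4 := by
  have hP : IsPGroup 2 E := fun x => ⟨1, by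
    rw [pow_one, pow_two]; exact Subtype.ext (hE x x.2)⟩
  obtain ⟨C, hC, hi⟩ := h.two E hP
  obtain ⟨g, hg⟩ := hC.exists_generator
  have hc : Nat.card C ≤ 2 := by
    have hg2 : g ^ 2 = 1 := by
      rw [pow_two]; exact Subtype.ext (Subtype.ext (hE _ g.1.2))
    calc Nat.card C = orderOf g := by
          rw [← Nat.card_zpowers, (Subgroup.eq_top_iff' _).2 hg, card_top]
      _ ≤ 2 := orderOf_le_of_pow_eq_one two_pos hg2
  rw [← C.card_mul_index]
  calc Nat.card C * C.index ≤ 2 * 2 := Nat.mul_le_mul hc (Nat.le_of_dvd two_pos hi)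
    _ = 4 := rfl

/-- Two commuting elements of the same odd prime order generate the same subgroup. -/
theorem Hyp.mem_zpowers [Finite G] (h : Hyp G) {l : ℕ} (hl : l.Prime) (hl2 : l ≠ 2) {a b : G}
    (ha : orderOf a = l) (hb : orderOf b = l) (hab : Commute a b) : b ∈ zpowers a := by
  have : Fact l.Prime := ⟨hl⟩
  let E := closure ({a, b} : Set G)
  have hcomm : ∀ x ∈ E, ∀ y ∈ E, Commute x y := by
    have := isMulCommutative_closure (k := ({a, b} : Set G)) (by
      rintro x (rfl | rfl) y (rfl | rfl)
      exacts [rfl, hab.eq, hab.symm.eq, rfl])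
    exact fun x hx y hy => congrArg Subtype.val (this.is_comm.comm (⟨x, hx⟩ : E) ⟨y, hy⟩)
  have hpow : ∀ x ∈ E, x ^ l = 1 := by
    intro x hx
    induction hx using closure_induction with
    | mem x hx =>
      rcases hx with rfl | rfl
      · rw [← ha, pow_orderOf_eq_one]
      · rw [← hb, pow_orderOf_eq_one]
    | one => exact one_pow l
    | mul x y hx hy ex ey => rw [(hcomm x hx y hy).mul_pow, ex, ey, one_mul]
    | inv x _ ex => rw [inv_pow, ex, inv_one]
  have hP : IsPGroup l E := fun x => ⟨1, Subtype.ext (by rw [pow_one, coe_pow]; exact hpow x x.2)⟩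
  obtain ⟨g, hg⟩ := (h.odd l hl hl2 E hP).exists_generator
  have hcard : Nat.card E ≤ l := by
    calc Nat.card E = orderOf g := by rw [← Nat.card_zpowers, (Subgroup.eq_top_iff' _).2 hg, card_top]
      _ ≤ l := orderOf_le_of_pow_eq_one hl.pos (Subtype.ext (by rw [coe_pow]; exact hpow g g.2))
  have he : zpowers a = E := eq_of_le_of_card_ge (zpowers_le.2 (subset_closure (by simp)))
    (by rwa [Nat.card_zpowers, ha])
  rw [he]
  exact subset_closure (by simp)

/-- A group of odd order satisfying the hypothesis is a Z-group. -/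
theorem Hyp.isZGroup [Finite G] (h : Hyp G) (hodd : Odd (Nat.card G)) : IsZGroup G := by
  refine ⟨fun p hp P => ?_⟩
  have : Fact p.Prime := ⟨hp⟩
  rcases eq_or_ne p 2 with rfl | hp2
  · obtain ⟨n, hn⟩ := IsPGroup.iff_card.1 P.isPGroup'
    have h1 : Nat.card (P : Subgroup G) ∣ Nat.card G := card_subgroup_dvd_card _
    rw [hn] at h1
    rcases Nat.eq_zero_or_pos n with rfl | hn0
    · have : Subsingleton (P : Subgroup G) :=
        (Nat.card_eq_one_iff_unique.1 (by rw [hn, pow_zero])).1
      infer_instance
    · exact absurd (Nat.odd_iff.1 hodd) (by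
        have := (dvd_pow_self 2 hn0.ne').trans h1
        omega)
  · exact h.odd p hp hp2 _ P.isPGroup'

end CfsgLib.AlmostCyclic
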