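import Mathlib.GroupTheory.Solvable
import Mathlib.GroupTheory.IsPerfect

/-!
# The last term of the derived series (owner: helper7)
-/

set_option autoImplicit false

namespace CfsgLib.AlmostCyclic

open Subgroup

variable {G : Type*} [Group G]

theorem perfect_le_derivedSeries {P : Subgroup G} (hP : ⁅P, P⁆ = P) (n : ℕ) : P ≤ derivedSeries G n := by
  induction n with
  | zero => simp
  | succ n ih => rw [derivedSeries_succ, ← hP]; exact commutator_mono ih ih

theorem commutator_subgroupOf_eq {P D : Subgroup G} (hPD : P ≤ D) (hP : ⁅P, P⁆ = P) :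
    ⁅P.subgroupOf D, P.subgroupOf D⁆ = P.subgroupOf D := by
  refine map_injective D.subtype_injective ?_
  rw [map_commutator, subgroupOf_map_subtype, inf_of_le_left hPD, hP]

theorem map_commutator_eq {H : Subgroup G} (hperf : _root_.commutator H = ⊤) {K : Type*} [Group K] (f : G →* K) :
    ⁅H.map f, H.map f⁆ = H.map f := by
  rw [← map_commutator]
  congr 1
  rw [← map_subtype_commutator, hperf, ← MonoidHom.range_eq_map, range_subtype]

theorem bracket_eq_of_perfect {H : Subgroup G} (hperf : _root_.commutator H = ⊤) : ⁅H, H⁆ = H := by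
  rw [← map_subtype_commutator, hperf, ← MonoidHom.range_eq_map, range_subtype]

/-- The last term of the derived series contains every perfect subgroup. -/
theorem exists_radical (G : Type*) [Group G] [Finite G] :
    ∃ (n : ℕ) (H : Subgroup G), H = derivedSeries G n ∧ H.Normal ∧ _root_.commutator H = ⊤ ∧
      ∀ P : Subgroup G, ⁅P, P⁆ = P → P ≤ H := by
  classical
  let n := Function.argmin (fun k => Nat.card (derivedSeries G k))
  have heq : derivedSeries G (n + 1) = derivedSeries G n :=
    eq_of_le_of_card_ge (derivedSeries_antitone G n.le_succ)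
      (Function.argmin_le (fun k => Nat.card (derivedSeries G k)) (n + 1))
  refine ⟨n, _, rfl, derivedSeries_normal G n, ?_, fun P hP => perfect_le_derivedSeries hP n⟩
  refine Group.isPerfect_def.1 (Subgroup.isPerfect_iff.2 ?_)
  rw [← derivedSeries_succ, heq]

end CfsgLib.AlmostCyclic
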