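import Cfsg.Agent.Lib.AlmostCyclic.Perfect
import Cfsg.Agent.Lib.AlmostCyclic.Aut
import Cfsg.Agent.Lib.Classical.PSLTwoSimple
import Cfsg.Agent.Lib.Classical.SL2Sylow

/-!
# The structure of non-solvable groups with almost cyclic Sylow subgroups (owner: helper7)
-/

set_option autoImplicit false

namespace CfsgLib.AlmostCyclic

open Subgroup Cfsg
open Matrix (ProjectiveSpecialLinearGroup SpecialLinearGroup)
open scoped commutatorElement

universe u

variable {G : Type u} [Group G] [Finite G]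

theorem exists_perfect_normal (hns : ¬ Group.IsSolvable G) :
    ∃ H : Subgroup G, H.Normal ∧ commutator H = ⊤ ∧ Nat.card H ≠ 1 := by
  classical
  let n := Function.argmin (fun k => Nat.card (derivedSeries G k))
  have heq : derivedSeries G (n + 1) = derivedSeries G n :=
    eq_of_le_of_card_ge (derivedSeries_antitone G n.le_succ)
      (Function.argmin_le (fun k => Nat.card (derivedSeries G k)) (n + 1))
  refine ⟨derivedSeries G n, derivedSeries_normal G n, ?_, fun h1 => hns ?_⟩
  · refine Group.isPerfect_def.1 (Subgroup.isPerfect_iff.2 ?_)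
    rw [← derivedSeries_succ, heq]
  · exact ⟨⟨n, Subgroup.card_eq_one.1 h1⟩⟩

/-- Every aspect of the perfect group that is used below. -/
theorem projection {H : Type*} [Group H] [Finite H] (hperf : commutator H = ⊤) {p : ℕ} [Fact p.Prime]
    (hp : 5 ≤ p)
    (h : Nonempty (H ≃* ProjectiveSpecialLinearGroup (Fin 2) (ZMod p)) ∨
      Nonempty (H ≃* SpecialLinearGroup (Fin 2) (ZMod p))) :
    ∃ π : H →* ProjectiveSpecialLinearGroup (Fin 2) (ZMod p), Function.Surjective π ∧ π.ker = center H ∧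
      Nat.card (center H) ≤ 2 ∧ (center H = ⊥ ∨ 8 ∣ Nat.card H) := by
  have hcard : 4 ≤ Fintype.card (ZMod p) := by rw [ZMod.card]; omega
  rcases h with ⟨⟨e⟩⟩ | ⟨⟨e⟩⟩
  · have := Classical.isSimpleGroup_PSL_two (F := ZMod p) hcard
    have hsimple : IsSimpleGroup H :=
      have : Nontrivial H := e.toEquiv.nontrivial
      IsSimpleGroup.isSimpleGroup_of_surjective e.symm.toMonoidHom e.symm.surjective
    have hZ : center H = ⊥ := by
      rcases Subgroup.Normal.eq_bot_or_eq_top (H := center H) inferInstance with h0 | h0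
      · exact h0
      · exfalso
        have hb : commutator H = ⊥ := by
          rw [_root_.commutator_def, eq_bot_iff, commutator_le]
          intro a _ b _
          rw [mem_bot, commutatorElement_eq_one_iff_mul_comm]
          exact (mem_center_iff.1 (h0 ▸ mem_top b : b ∈ center H) a)
        exact bot_ne_top (hb.symm.trans hperf)
    refine ⟨e.toMonoidHom, e.surjective, ?_, ?_, Or.inl hZ⟩
    · rw [hZ, MonoidHom.ker_eq_bot_iff]; exact e.injective
    · rw [hZ, card_bot]; omega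
  · let π₀ := QuotientGroup.mk' (center (SpecialLinearGroup (Fin 2) (ZMod p)))
    have hker : (π₀.comp e.toMonoidHom).ker = center H := by
      ext x
      rw [MonoidHom.mem_ker, MonoidHom.comp_apply, QuotientGroup.mk'_apply, QuotientGroup.eq_one_iff,
        mem_center_iff, mem_center_iff]
      refine ⟨fun hx g => e.injective ?_, fun hx g => ?_⟩
      · rw [map_mul, map_mul]; exact hx (e g)
      · obtain ⟨g, rfl⟩ := e.surjective g
        show e g * e x = e x * e g
        rw [← map_mul, ← map_mul, hx g]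
    refine ⟨π₀.comp e.toMonoidHom, (QuotientGroup.mk'_surjective _).comp e.surjective, hker, ?_, Or.inr ?_⟩
    · classical
      rw [Nat.card_congr (Subgroup.centerCongr e).toEquiv,
        Nat.card_congr (SpecialLinearGroup.center_equiv_rootsOfUnity' (0 : Fin 2)).toEquiv,
        Nat.card_eq_fintype_card]
      simpa using card_rootsOfUnity (ZMod p) 2
    · rw [Nat.card_congr e.toEquiv, Classical.Two.card_SL_two, ZMod.card]
      have hodd : p % 2 = 1 := Nat.odd_iff.1 ((Fact.out : p.Prime).odd_of_ne_two (by omega))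
      exact dvd_mul_of_dvd_right (Nat.eight_dvd_sq_sub_one_of_odd (Nat.odd_iff.2 hodd)) p

/-- No element of order two modulo the centre centralises the perfect subgroup. -/
theorem no_central_two (h : Hyp G) (H : Subgroup G) (hperf : commutator H = ⊤) (hev : Even (Nat.card H))
    (hZ : Nat.card (center H) ≤ 2) (h8 : center H = ⊥ ∨ 8 ∣ Nat.card H) {t : G}
    (hc : t ∈ centralizer (H : Set G)) (ht : t ∉ H) (ht2 : t * t ∈ H) : False := by
  have : Fact (Nat.Prime 2) := ⟨Nat.prime_two⟩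
  obtain ⟨Q⟩ := (inferInstance : Nonempty (Sylow 2 H))
  have hQc : ¬ IsCyclic (Q : Subgroup H) := fun hc' => by
    obtain ⟨M, hM⟩ := Signalizer.index_two_of_cyclic_sylow hev Q hc'
    exact no_index_two_of_perfect hperf M hM
  obtain ⟨m, hm⟩ := IsPGroup.iff_card.1 Q.isPGroup'
  have hm2 : 2 ≤ m := by
    by_contra hlt
    refine hQc ?_
    rcases m with _ | _ | m
    · have : Subsingleton (Q : Subgroup H) := (Nat.card_eq_one_iff_unique.1 (by rw [hm, pow_zero])).1
      infer_instance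
    · exact isCyclic_of_prime_card (p := 2) (by rw [hm, pow_one])
    · omega
  have hzc : (⟨t * t, ht2⟩ : H) ∈ center H := mem_center_iff.2 fun x => Subtype.ext (by
    show (x : G) * (t * t) = t * t * x
    rw [← mul_assoc, mem_centralizer_iff.1 hc x x.2, mul_assoc, mem_centralizer_iff.1 hc x x.2, ← mul_assoc])
  have hz2 : (t * t) * (t * t) = 1 := by
    have h1 := pow_card_eq_one' (x := (⟨⟨t * t, ht2⟩, hzc⟩ : center H))
    rcases Nat.lt_or_ge (Nat.card (center H)) 2 with h2 | h2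
    · rw [show Nat.card (center H) = 1 by have := Nat.card_pos (α := center H); omega, pow_one] at h1
      rw [show t * t = 1 from congrArg (fun y : center H => ((y : H) : G)) h1, mul_one]
    · rw [show Nat.card (center H) = 2 by omega, pow_two] at h1
      exact congrArg (fun y : center H => ((y : H) : G)) h1
  have hpow : ∀ a : ℤ, ((t * t) ^ a) ^ 2 ^ (m - 2) = 1 := by
    intro a
    rcases h8 with h8 | h8
    · rw [h8, mem_bot] at hzc
      rw [show t * t = 1 from congrArg Subtype.val hzc, one_zpow, one_pow]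
    · have hm3 : 3 ≤ m := by
        have h3 := Q.card_eq_multiplicity
        rw [hm] at h3
        have h3' := Nat.pow_right_injective (le_refl 2) h3
        have : 2 ^ 3 ∣ Nat.card H := h8
        rw [(Nat.prime_two).pow_dvd_iff_le_factorization Nat.card_pos.ne'] at this
        omega
      have h2 : ((t * t) ^ a) ^ 2 = 1 := by
        rw [pow_two, ← (Commute.refl (t * t)).mul_zpow, hz2, one_zpow]
      rw [show 2 ^ (m - 2) = 2 * 2 ^ (m - 3) by rw [← pow_succ']; congr 1; omega, pow_mul, h2, one_pow]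
  have htord : t ^ 4 = 1 := by
    rw [show t ^ 4 = t * t * (t * t) by simp [pow_succ, mul_assoc], hz2]
  let QG : Subgroup G := (Q : Subgroup H).map H.subtype
  have hQGc : Nat.card QG = 2 ^ m := by rw [card_map_of_injective H.subtype_injective, hm]
  have hQH : QG ≤ H := map_subtype_le _
  have hP : IsPGroup 2 (QG ⊔ zpowers t : Subgroup G) := by
    have hcent : zpowers t ≤ Subgroup.normalizer (QG : Set G) := by
      rw [zpowers_le, mem_normalizer_iff]
      intro n
      have hcomm : ∀ q ∈ QG, t * q * t⁻¹ = q := fun q hq => by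
        rw [← mem_centralizer_iff.1 hc q (hQH hq), mul_inv_cancel_right]
      refine ⟨fun hn => by rw [hcomm n hn]; exact hn, fun hn => ?_⟩
      have h1 := hcomm _ hn
      rw [mul_inv_eq_iff_eq_mul] at h1
      have h2 : t * n * t⁻¹ = n := mul_left_cancel (a := t) (by rw [h1]; group)
      rwa [h2] at hn
    exact IsPGroup.to_sup_of_normal_left' (Q.isPGroup'.map H.subtype)
      (IsPGroup.of_card (n := (Nat.log 2 (orderOf t))) (by
        rw [Nat.card_zpowers]
        obtain ⟨i, -, hi⟩ := (Nat.dvd_prime_pow Nat.prime_two).1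
          (show orderOf t ∣ 2 ^ 2 from orderOf_dvd_of_pow_eq_one htord)
        rw [hi, Nat.log_pow one_lt_two])) hcent
  set P : Subgroup G := QG ⊔ zpowers t with hPdef
  obtain ⟨A, hA, hAi⟩ := h.two P hP
  obtain ⟨g, hg⟩ := hA.exists_generator
  have hPcard : 2 * 2 ^ m ≤ Nat.card P := by
    obtain ⟨k, hk⟩ := IsPGroup.iff_card.1 hP
    have h1 : QG < P := lt_of_le_of_ne le_sup_left fun e =>
      ht (hQH (e ▸ mem_sup_right (mem_zpowers t)))
    have h2 : Nat.card QG < Nat.card P := by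
      by_contra hle
      exact h1.ne (eq_of_le_of_card_ge h1.le (not_lt.1 hle))
    rw [hQGc, hk] at h2
    rw [hk, ← pow_succ']
    exact Nat.pow_le_pow_right two_pos ((Nat.pow_lt_pow_iff_right one_lt_two).1 h2)
  have hord : 2 ^ m ≤ orderOf g := by
    rw [← Nat.card_zpowers, (Subgroup.eq_top_iff' _).2 hg, card_top]
    have h1 := A.card_mul_index
    have h2 := Nat.le_of_dvd two_pos hAi
    nlinarith [Nat.card_pos (α := A)]
  obtain ⟨q, hq, a, hqa⟩ : ∃ q ∈ QG, ∃ a : ℤ, q * t ^ a = ((g : P) : G) := by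
    suffices ∀ y ∈ P, ∃ q ∈ QG, ∃ a : ℤ, q * t ^ a = y from this _ (g : P).2
    intro y hmem
    rw [hPdef, sup_eq_closure] at hmem
    induction hmem using closure_induction with
    | mem x hx =>
      rcases hx with hx | hx
      · exact ⟨x, hx, 0, by rw [zpow_zero, mul_one]⟩
      · obtain ⟨i, rfl⟩ := mem_zpowers_iff.1 hx
        exact ⟨1, one_mem _, i, one_mul _⟩
    | one => exact ⟨1, one_mem _, 0, by rw [zpow_zero, mul_one]⟩
    | mul x y _ _ ex ey =>
      obtain ⟨q, hq, i, rfl⟩ := ex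
      obtain ⟨r, hr, j, rfl⟩ := ey
      refine ⟨q * r, mul_mem hq hr, i + j, ?_⟩
      have hcr : Commute (t ^ i) r := (Commute.zpow_left (mem_centralizer_iff.1 hc r (hQH hr)).symm i)
      rw [zpow_add, mul_assoc q (t ^ i), ← mul_assoc (t ^ i), hcr.eq]
      simp only [mul_assoc]
    | inv x _ ex =>
      obtain ⟨q, hq, i, rfl⟩ := ex
      refine ⟨q⁻¹, inv_mem hq, -i, ?_⟩
      have hcr : Commute (t ^ i) q := (Commute.zpow_left (mem_centralizer_iff.1 hc q (hQH hq)).symm i)
      rw [← hcr.eq, mul_inv_rev, zpow_neg]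
  have hcomm : Commute q (t ^ a) :=
    (Commute.zpow_left (mem_centralizer_iff.1 hc q (hQH hq)).symm a).symm
  have hta : (t ^ a) ^ 2 ^ (m - 1) = 1 := by
    rw [show 2 ^ (m - 1) = 2 * 2 ^ (m - 2) by rw [← pow_succ']; congr 1; omega, pow_mul,
      show (t ^ a) ^ 2 = (t * t) ^ a by rw [pow_two, ← zpow_add, ← two_mul, zpow_mul, zpow_two]]
    exact hpow a
  obtain ⟨q', hq', rfl⟩ := hq
  refine hQc ?_
  have hne : (⟨q', hq'⟩ : (Q : Subgroup H)) ^ 2 ^ (m - 1) ≠ 1 := fun h1 => by
    have h1' : (H.subtype q' : G) ^ 2 ^ (m - 1) = 1 := congrArg (fun y : (Q : Subgroup H) => ((y : H) : G)) h1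
    have h2 : ((g : P) : G) ^ 2 ^ (m - 1) = 1 := by rw [← hqa, hcomm.mul_pow, h1', hta, mul_one]
    have h3 : orderOf g ≤ 2 ^ (m - 1) :=
      orderOf_le_of_pow_eq_one (pow_pos two_pos _) (Subtype.ext (Subtype.ext (by push_cast; exact h2)))
    have := Nat.pow_lt_pow_right one_lt_two (show m - 1 < m by omega)
    omega
  have hfull : orderOf (⟨q', hq'⟩ : (Q : Subgroup H)) = 2 ^ m := by
    obtain ⟨i, hi, he⟩ := (Nat.dvd_prime_pow Nat.prime_two).1 (hm ▸ orderOf_dvd_natCard (⟨q', hq'⟩ : (Q : Subgroup H)))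
    rw [he]
    rcases Nat.lt_or_ge i m with hlt | hge
    · exact absurd (orderOf_dvd_iff_pow_eq_one.1 (he ▸ pow_dvd_pow 2 (by omega))) hne
    · rw [le_antisymm hi hge]
  exact isCyclic_of_orderOf_eq_card _ (hfull.trans hm.symm)

/-- The odd complement of a normal `PSL(2, p)` or `SL(2, p)`. -/
theorem exists_odd_complement (h : Hyp G) (H : Subgroup G) [hHn : H.Normal] (hperf : commutator H = ⊤)
    (hev : Even (Nat.card H)) {p : ℕ} [Fact p.Prime] (hp5 : 5 ≤ p)
    (hiso : Nonempty (H ≃* ProjectiveSpecialLinearGroup (Fin 2) (ZMod p)) ∨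
      Nonempty (H ≃* SpecialLinearGroup (Fin 2) (ZMod p))) :
    ∃ G₀ X : Subgroup G, G₀.Normal ∧ G₀.index ∣ 2 ∧ X.Normal ∧ X ≤ centralizer (H : Set G) ∧ X ≤ G₀ ∧ H ≤ G₀ ∧
      G₀ ≤ H ⊔ X ∧ (Nat.card X).Coprime (Nat.card H) ∧ Odd (Nat.card X) := by
  classical
  have : Fact (Nat.Prime 2) := ⟨Nat.prime_two⟩
  obtain ⟨π, hπ, hker, hZ2, h8⟩ := projection hperf hp5 hiso
  -- the action on the simple quotient
  let E : H ⧸ center H ≃* ProjectiveSpecialLinearGroup (Fin 2) (ZMod p) :=
    (QuotientGroup.quotientMulEquivOfEq hker.symm).trans (QuotientGroup.quotientKerEquivOfSurjective π hπ)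
  have hE : ∀ x : H, E (QuotientGroup.mk x) = π x := fun x => rfl
  have hchar : ∀ φ : MulAut H, (center H).map φ.toMonoidHom = center H := fun φ => by
    ext x
    simp only [mem_map, MulEquiv.coe_toMonoidHom, mem_center_iff]
    refine ⟨fun ⟨y, hy, e⟩ g => ?_, fun hx => ⟨φ.symm x, fun g => φ.injective ?_, φ.apply_symm_apply x⟩⟩
    · obtain ⟨g, rfl⟩ := φ.surjective g
      rw [← e, ← map_mul, ← map_mul, hy g]
    · rw [map_mul, map_mul, φ.apply_symm_apply]
      exact hx _
  let Φ : MulAut H →* MulAut (H ⧸ center H) :=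
    { toFun := fun φ => QuotientGroup.congr _ _ φ (hchar φ)
      map_one' := by
        ext x
        obtain ⟨x, rfl⟩ := QuotientGroup.mk_surjective x
        rfl
      map_mul' := fun a b => by
        ext x
        obtain ⟨x, rfl⟩ := QuotientGroup.mk_surjective x
        rfl }
  let ψ : G →* MulAut (ProjectiveSpecialLinearGroup (Fin 2) (ZMod p)) :=
    (MulAut.congr E).toMonoidHom.comp (Φ.comp MulAut.conjNormal)
  have hψ : ∀ (g : G) (x : H), ψ g (π x) = π (MulAut.conjNormal g x) := fun g x => by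
    show E (Φ (MulAut.conjNormal g) (E.symm (π x))) = _
    rw [← hE x, E.symm_apply_apply, ← hE]
    rfl
  let C : Subgroup G := centralizer (H : Set G)
  have hinner : ∀ h' : H, ψ (h' : G) = MulAut.conj (π h') := fun h' => by
    ext y
    obtain ⟨x, rfl⟩ := hπ y
    rw [hψ, MulAut.conj_apply, ← map_inv, ← map_mul, ← map_mul]
    congr 1
  have hkerψ : ∀ g : G, ψ g = 1 → g ∈ C := by
    intro g hg
    have hd : ∀ x : H, x⁻¹ * MulAut.conjNormal g x ∈ center H := fun x => by
      rw [← hker, MonoidHom.mem_ker, map_mul, map_inv, ← hψ, hg, MulAut.one_apply, inv_mul_cancel]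
    let δ : H →* center H :=
      { toFun := fun x => ⟨x⁻¹ * MulAut.conjNormal g x, hd x⟩
        map_one' := Subtype.ext (by simp)
        map_mul' := fun x y => Subtype.ext (by
          show (x * y)⁻¹ * MulAut.conjNormal g (x * y) =
            (x⁻¹ * MulAut.conjNormal g x) * (y⁻¹ * MulAut.conjNormal g y)
          rw [map_mul, mul_inv_rev, ← mul_assoc _ y⁻¹, ← mem_center_iff.1 (hd x) y⁻¹]
          simp only [mul_assoc]) }
    refine mem_centralizer_iff.2 fun x hx => ?_
    have hmem : (⟨x, hx⟩ : H) ∈ commutator H := by rw [hperf]; exact mem_top _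
    have hle : commutator H ≤ δ.ker := by
      rw [_root_.commutator_def, commutator_le]
      intro a _ b _
      rw [MonoidHom.mem_ker, map_commutatorElement, commutatorElement_eq_one_iff_mul_comm]
      exact Subtype.ext (mem_center_iff.1 (δ b).2 _)
    have h1 : δ ⟨x, hx⟩ = 1 := hle hmem
    have h2 : (⟨x, hx⟩ : H) = MulAut.conjNormal g ⟨x, hx⟩ := inv_mul_eq_one.1 (congrArg Subtype.val h1)
    have h3 : x = g * x * g⁻¹ := congrArg Subtype.val h2
    exact (mul_inv_eq_iff_eq_mul.1 h3.symm).symm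
  let G₀ : Subgroup G := (MulAut.conj (G := ProjectiveSpecialLinearGroup (Fin 2) (ZMod p))).range.comap ψ
  have hinnN : (MulAut.conj (G := ProjectiveSpecialLinearGroup (Fin 2) (ZMod p))).range.Normal := by
    refine ⟨?_⟩
    rintro _ ⟨a, rfl⟩ φ
    exact ⟨φ a, by ext y; simp [MulAut.conj_apply]⟩
  have hidx : G₀.index ∣ 2 := by
    rw [index_comap]
    exact (relIndex_dvd_index_of_normal _ _).trans index_inn_psl_dvd
  have hH0 : H ≤ G₀ := fun x hx => ⟨π ⟨x, hx⟩, (hinner ⟨x, hx⟩).symm⟩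
  have hC0 : C ≤ G₀ := fun c hc => ⟨1, by
    rw [map_one]
    symm
    ext y
    obtain ⟨x, rfl⟩ := hπ y
    rw [hψ, MulAut.one_apply]
    congr 1
    refine Subtype.ext ?_
    show c * x * c⁻¹ = x
    rw [← mem_centralizer_iff.1 hc x x.2, mul_inv_cancel_right]⟩
  have hgen : G₀ ≤ H ⊔ C := by
    rintro g ⟨a, ha⟩
    obtain ⟨h', rfl⟩ := hπ a
    have h1 : ψ ((h' : G)⁻¹ * g) = 1 := by rw [map_mul, map_inv, hinner, ← ha, inv_mul_cancel]
    rw [← mul_inv_cancel_left (h' : G) g]
    exact mul_mem (mem_sup_left h'.2) (mem_sup_right (hkerψ _ h1))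
  -- the odd part of the centralizer
  have hCn : C.Normal := Subgroup.normal_centralizer
  let Zc : Subgroup C := H.subgroupOf C
  have hZcent : ∀ c : C, (c : G) ∈ H → ∀ x : C, x * c = c * x := fun c hc x =>
    Subtype.ext ((mem_centralizer_iff.1 x.2 c hc).symm)
  have hZn : Zc.Normal := inferInstance
  have hZcard : Nat.card Zc ≤ 2 := by
    refine (Nat.card_le_card_of_injective (fun z : Zc => (⟨⟨((z : C) : G), z.2⟩,
      mem_center_iff.2 fun x => Subtype.ext (mem_centralizer_iff.1 (z : C).2 x x.2)⟩ : center H))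
      fun a b e => ?_).trans hZ2
    exact Subtype.ext (Subtype.ext (congrArg (fun y : center H => ((y : H) : G)) e))
  have hZodd : Odd Zc.index := by
    rw [← Nat.not_even_iff_odd, even_iff_two_dvd, index_eq_card]
    intro hdvd
    obtain ⟨x, hx⟩ := exists_prime_orderOf_dvd_card' 2 hdvd
    obtain ⟨c, rfl⟩ := QuotientGroup.mk_surjective x
    have h1 : (c : G) ∉ H := fun hcH => by
      rw [(QuotientGroup.eq_one_iff c).2 (show c ∈ Zc from hcH), orderOf_one] at hx
      omega
    have h2 : c * c ∈ Zc := by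
      rw [← QuotientGroup.eq_one_iff, QuotientGroup.mk_mul, ← pow_two, ← hx, pow_orderOf_eq_one]
    exact no_central_two h H hperf hev hZ2 h8 c.2 h1 h2
  have hZsq : ∀ z ∈ Zc, z ^ 2 = 1 := fun z hz => by
    have h1 := pow_card_eq_one' (x := (⟨z, hz⟩ : Zc))
    have := Nat.card_pos (α := Zc)
    rcases (show Nat.card Zc = 1 ∨ Nat.card Zc = 2 by omega) with e | e <;> rw [e] at h1
    · rw [pow_one] at h1; rw [show z = 1 from congrArg Subtype.val h1, one_pow]
    · exact congrArg Subtype.val h1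
  have hcop : Nat.Coprime (Nat.card Zc) Zc.index := by
    have := Nat.card_pos (α := Zc)
    rcases (show Nat.card Zc = 1 ∨ Nat.card Zc = 2 by omega) with e | e <;> rw [e]
    · exact Nat.coprime_one_left _
    · exact Nat.coprime_two_left.2 hZodd
  obtain ⟨X₀, hX₀⟩ := exists_right_complement'_of_coprime hcop
  have hXcard : Nat.card X₀ = Zc.index := (hX₀.symm.index_eq_card).symm
  let X₁ : Subgroup G := X₀.map C.subtype
  have hiff : ∀ x : G, x ∈ X₁ ↔ x ∈ C ∧ x ^ Zc.index = 1 := by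
    intro x
    constructor
    · rintro ⟨y, hy, rfl⟩
      refine ⟨y.2, ?_⟩
      have h1 := pow_card_eq_one' (x := (⟨y, hy⟩ : X₀))
      rw [hXcard] at h1
      exact congrArg (fun w : X₀ => ((w : C) : G)) h1
    · rintro ⟨hx, hpow⟩
      obtain ⟨⟨⟨z, hz⟩, ⟨l, hl⟩⟩, he⟩ := hX₀.2 (⟨x, hx⟩ : C)
      have he' : z * l = (⟨x, hx⟩ : C) := he
      have hl1 : l ^ Zc.index = 1 := by
        have h1 := pow_card_eq_one' (x := (⟨l, hl⟩ : X₀))
        rw [hXcard] at h1
        exact congrArg Subtype.val h1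
      have hz1 : z ^ Zc.index = 1 := by
        have h1 : (z * l) ^ Zc.index = 1 := by rw [he']; exact Subtype.ext hpow
        rwa [(Commute.mul_pow (hZcent z hz l).symm), hl1, mul_one] at h1
      have hz0 : z = 1 := by
        obtain ⟨k, hk⟩ := hZodd
        rwa [hk, pow_succ, pow_mul, hZsq z hz, one_pow, one_mul] at hz1
      rw [hz0, one_mul] at he'
      exact ⟨l, hl, congrArg Subtype.val he'⟩
  have hX1n : X₁.Normal := ⟨fun x hx g => by
    obtain ⟨h1, h2⟩ := (hiff x).1 hx
    exact (hiff _).2 ⟨hCn.conj_mem x h1 g, by rw [conj_pow, h2, mul_one, mul_inv_cancel]⟩⟩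
  have hX1card : Nat.card X₁ = Zc.index := by rw [card_map_of_injective C.subtype_injective, hXcard]
  have hX1odd : Odd (Nat.card X₁) := hX1card ▸ hZodd
  have hcopXH : (Nat.card X₁).Coprime (Nat.card H) := by
    refine Nat.coprime_of_dvd fun l hl h1 h2 => ?_
    have := Fact.mk hl
    obtain ⟨x, hx⟩ := exists_prime_orderOf_dvd_card' l h1
    obtain ⟨y, hy⟩ := exists_prime_orderOf_dvd_card' l h2
    have hl2 : l ≠ 2 := by rintro rfl; exact absurd (Nat.odd_iff.1 hX1odd) (by omega)
    rw [← Subgroup.orderOf_coe] at hx hy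
    have hxC : (x : G) ∈ C := ((hiff _).1 x.2).1
    have hmem := h.mem_zpowers hl hl2 hx hy (mem_centralizer_iff.1 hxC y y.2).symm
    have hyC : (y : G) ∈ C := (zpowers_le.2 hxC) hmem
    have h3 := pow_card_eq_one' (x := (⟨⟨(y : G), hyC⟩, y.2⟩ : Zc))
    have h4 : orderOf (y : G) ∣ Nat.card Zc :=
      orderOf_dvd_of_pow_eq_one (congrArg (fun w : Zc => ((w : C) : G)) h3)
    rw [hy] at h4
    exact hl2 (le_antisymm ((Nat.le_of_dvd Nat.card_pos h4).trans hZcard) hl.two_le)
  have hsup : H ⊔ C ≤ H ⊔ X₁ := by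
    refine sup_le le_sup_left fun c hc => ?_
    obtain ⟨⟨⟨z, hz⟩, ⟨l, hl⟩⟩, he⟩ := hX₀.2 (⟨c, hc⟩ : C)
    rw [show c = (z : G) * (l : G) from (congrArg Subtype.val he).symm]
    exact mul_mem (mem_sup_left hz) (mem_sup_right (mem_map_of_mem _ hl))
  have hX0 : X₁ ≤ G₀ := fun x hx => hC0 ((hiff x).1 hx).1
  exact ⟨G₀, X₁, Subgroup.Normal.comap hinnN ψ, hidx, hX1n, fun x hx => ((hiff x).1 hx).1, hX0, hH0,
    hgen.trans hsup, hcopXH, hX1odd⟩

/-- **The structure theorem.** -/
theorem structure_theorem (hX : NoSemidihedral.{u}) (h : Hyp G) (hns : ¬ Group.IsSolvable G) :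
    ∃ G₀ : Subgroup G, G₀.Normal ∧ G₀.index ∣ 2 ∧
      ∃ X L : Subgroup G₀, X.Normal ∧ L.Normal ∧ X ⊓ L = ⊥ ∧ X ⊔ L = ⊤ ∧
        (Nat.card X).Coprime (Nat.card L) ∧ Odd (Nat.card X) ∧
        (∃ (C : Subgroup X) (_ : C.Normal), IsCyclic C ∧ IsCyclic (X ⧸ C)) ∧
        ∃ (p : ℕ) (_ : Fact p.Prime), 5 ≤ p ∧
          (Nonempty (L ≃* ProjectiveSpecialLinearGroup (Fin 2) (ZMod p)) ∨
           Nonempty (L ≃* SpecialLinearGroup (Fin 2) (ZMod p))) := by
  classical
  have : Fact (Nat.Prime 2) := ⟨Nat.prime_two⟩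
  obtain ⟨H, hHn, hperf, hH1⟩ := exists_perfect_normal hns
  have hHyp := h.subgroup H
  obtain ⟨p, hpf, hp5, hiso⟩ := perfect_classify hX hHyp hperf hH1
  have hev : Even (Nat.card H) := by
    by_contra ho
    exact hH1 (card_eq_one_of_odd hHyp hperf (Nat.not_even_iff_odd.1 ho))
  obtain ⟨G₀, X₁, hG₀, hidx, hX1n, -, hX0, hH0, hgen, hcopXH, hX1odd⟩ :=
    exists_odd_complement h H hperf hev hp5 hiso
  refine ⟨G₀, hG₀, hidx, X₁.subgroupOf G₀, H.subgroupOf G₀, inferInstance,
    inferInstance, ?_, ?_, ?_, ?_, ?_, p, hpf, hp5, ?_⟩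
  · rw [eq_bot_iff]
    rintro x ⟨h1, h2⟩
    have h3 : (x : G) ∈ X₁ ⊓ H := ⟨h1, h2⟩
    rw [inf_eq_bot_of_coprime hcopXH, mem_bot] at h3
    exact mem_bot.2 (Subtype.ext h3)
  · rw [← subgroupOf_sup hX0 hH0, subgroupOf_eq_top, sup_comm]
    exact hgen
  · rw [Nat.card_congr (subgroupOfEquivOfLe hX0).toEquiv, Nat.card_congr (subgroupOfEquivOfLe hH0).toEquiv]
    exact hcopXH
  · rw [Nat.card_congr (subgroupOfEquivOfLe hX0).toEquiv]
    exact hX1odd
  · have hodd' : Odd (Nat.card (X₁.subgroupOf G₀)) := by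
      rw [Nat.card_congr (subgroupOfEquivOfLe hX0).toEquiv]; exact hX1odd
    have : IsZGroup (X₁.subgroupOf G₀) := ((h.subgroup G₀).subgroup _).isZGroup hodd'
    exact ⟨commutator _, inferInstance, IsZGroup.isCyclic_commutator _, IsZGroup.isCyclic_abelianization⟩
  · let e := subgroupOfEquivOfLe hH0
    exact hiso.imp (fun ⟨f⟩ => ⟨e.trans f⟩) (fun ⟨f⟩ => ⟨e.trans f⟩)

end CfsgLib.AlmostCyclic
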