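import Cfsg.Agent.Lib.AlmostCyclic.Types
import Cfsg.Agent.Lib.GW.Final
import Cfsg.Agent.Lib.GW.Deps.RankOne
import Cfsg.Agent.Lib.Transfer.Abelian
import Cfsg.Agent.Lib.Classical.Dickson.PSL
import Cfsg.Agent.S1214

/-!
# Perfect groups with almost cyclic Sylow subgroups (owner: helper7)

They are `PSL(2, p)` or `SL(2, p)`, given that no simple group of this kind has semidihedral
Sylow 2-subgroups.
-/

set_option autoImplicit false

namespace CfsgLib.AlmostCyclic

open Subgroup Cfsg
open scoped commutatorElement

universe u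

/-- No non-abelian simple group with almost cyclic Sylow subgroups has semidihedral ones. -/
def NoSemidihedral : Prop :=
  ∀ (G : Type u) [Group G] [Finite G] [IsSimpleGroup G] (_ : ¬ IsMulCommutative G) (_ : Hyp G)
    (S : Sylow 2 G), IsQuasiDihedral (S : Subgroup G) → False

variable {H : Type u} [Group H] [Finite H]

omit [Finite H] in
/-- A perfect group centralises its cyclic normal subgroups. -/
theorem cyclic_le_center (hperf : commutator H = ⊤) (D : Subgroup H) [D.Normal] [IsCyclic D] :
    D ≤ center H := by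
  let f : H →* MulAut D := MulAut.conjNormal
  have hcomm : ∀ a b : MulAut D, a * b = b * a := by
    intro a b
    refine (IsCyclic.mulAutMulEquiv D).injective ?_
    rw [map_mul, map_mul, mul_comm]
  have hker : f.ker = ⊤ := by
    rw [eq_top_iff, ← hperf, _root_.commutator_def, commutator_le]
    intro a _ b _
    rw [MonoidHom.mem_ker, map_commutatorElement, commutatorElement_eq_one_iff_mul_comm]
    exact hcomm _ _
  intro d hd
  refine mem_center_iff.2 fun g => ?_
  have h1 : f g ⟨d, hd⟩ = ⟨d, hd⟩ := by
    rw [show f g = 1 from MonoidHom.mem_ker.1 (hker ▸ mem_top g)]; rfl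
  exact mul_inv_eq_iff_eq_mul.1 (congrArg Subtype.val h1)

omit [Finite H] in
theorem commutator_top_map {Q : Type*} [Group Q] (hperf : commutator H = ⊤) (f : H →* Q)
    (hf : Function.Surjective f) : commutator Q = ⊤ := by
  have h := congrArg (Subgroup.map f) hperf
  rw [_root_.commutator_def, map_commutator, Subgroup.map_top_of_surjective f hf] at h
  rwa [_root_.commutator_def]

/-- The odd normal subgroups are central. -/
theorem odd_normal_le_center (h : Hyp H) (hperf : commutator H = ⊤) (N : Subgroup H) [N.Normal]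
    (hodd : Odd (Nat.card N)) : N ≤ center H := by
  have : IsZGroup N := (h.subgroup N).isZGroup hodd
  let D : Subgroup H := (commutator N).map N.subtype
  have hD : D = ⁅N, N⁆ := map_subtype_commutator N
  have hDn : D.Normal := hD ▸ commutator_normal N N
  have hDc : IsCyclic D :=
    have : IsCyclic (commutator N) := IsZGroup.isCyclic_commutator N
    isCyclic_of_surjective _ (N.subtype.subgroupMap_surjective (commutator N))
  have hDZ : D ≤ center H := cyclic_le_center hperf D
  let π := QuotientGroup.mk' D
  have hπ : Function.Surjective π := QuotientGroup.mk'_surjective _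
  let N' : Subgroup (H ⧸ D) := N.map π
  have : N'.Normal := Subgroup.Normal.map ‹_› π hπ
  have : IsCyclic N' := by
    let g : Abelianization N →* N' := QuotientGroup.lift (commutator N) (π.subgroupMap N) (by
      intro x hx
      exact Subtype.ext ((QuotientGroup.eq_one_iff (x : H)).2 (mem_map_of_mem N.subtype hx)))
    refine isCyclic_of_surjective g fun y => ?_
    obtain ⟨x, hx⟩ := π.subgroupMap_surjective N y
    exact ⟨QuotientGroup.mk x, hx⟩
  have hN' : N' ≤ center (H ⧸ D) := cyclic_le_center (commutator_top_map hperf π hπ) N'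
  have hTN : ⁅(⊤ : Subgroup H), N⁆ ≤ D := by
    rw [commutator_le]
    intro a _ x hx
    rw [← QuotientGroup.eq_one_iff]
    show π ⁅a, x⁆ = 1
    rw [map_commutatorElement, commutatorElement_eq_one_iff_mul_comm]
    exact mem_center_iff.1 (hN' (mem_map_of_mem π hx)) _
  have hbot : ∀ A : Subgroup H, A ≤ center H → ⁅A, (⊤ : Subgroup H)⁆ = ⊥ := fun A hA => by
    rw [eq_bot_iff, commutator_le]
    intro a ha b _
    rw [mem_bot, commutatorElement_eq_one_iff_mul_comm]
    exact (mem_center_iff.1 (hA ha) b).symm
  have h3 : ⁅⁅(⊤ : Subgroup H), (⊤ : Subgroup H)⁆, N⁆ = ⊥ := by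
    refine commutator_commutator_eq_bot_of_rotate (H₁ := (⊤ : Subgroup H)) (H₂ := ⊤) (H₃ := N) ?_ ?_
    · exact hbot _ (hTN.trans hDZ)
    · rw [Subgroup.commutator_comm N]
      exact hbot _ (hTN.trans hDZ)
  rw [← _root_.commutator_def, hperf] at h3
  intro x hx
  refine mem_center_iff.2 fun g => commutatorElement_eq_one_iff_mul_comm.1 ?_
  rw [← mem_bot, ← h3]
  exact commutator_mem_commutator (mem_top g) hx

/-- The core is trivial. -/
theorem oddCore_eq_bot (h : Hyp H) (hperf : commutator H = ⊤) : oddCore H = ⊥ := by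
  have hodd := GW.Deps.odd_card_core H
  have hZ := odd_normal_le_center h hperf (oddCore H) hodd
  by_contra hne
  obtain ⟨l, hl, hdvd⟩ := Nat.exists_prime_and_dvd (mt (Subgroup.card_eq_one.1) hne)
  have : Fact l.Prime := ⟨hl⟩
  obtain ⟨x, hx⟩ := exists_prime_orderOf_dvd_card' l hdvd
  have hl2 : l ≠ 2 := by
    rintro rfl
    exact absurd (Nat.odd_iff.1 hodd) (by omega)
  have hxl : orderOf (x : H) = l := by rw [Subgroup.orderOf_coe, hx]
  obtain ⟨P, hP⟩ := (IsPGroup.of_card (G := zpowers (x : H)) (p := l) (n := 1)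
    (by rw [Nat.card_zpowers, hxl, pow_one])).exists_le_sylow
  have : IsCyclic (P : Subgroup H) := h.odd l hl hl2 _ P.isPGroup'
  have : IsMulCommutative (P : Subgroup H) := inferInstance
  have hbot := Transfer.inf_commutator_inf_center_eq_bot (P : Subgroup H) P.card_coprime_index
  have hmem : (x : H) ∈ (P : Subgroup H) ⊓ commutator H ⊓ center H :=
    ⟨⟨hP (Subgroup.mem_zpowers _), hperf ▸ mem_top _⟩, hZ x.2⟩
  rw [hbot, mem_bot] at hmem
  rw [hmem, orderOf_one] at hxl
  exact hl.ne_one hxl.symm

/-- A perfect group of odd order with the hypothesis is trivial. -/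
theorem card_eq_one_of_odd (h : Hyp H) (hperf : commutator H = ⊤) (hodd : Odd (Nat.card H)) :
    Nat.card H = 1 := by
  have : IsZGroup H := h.isZGroup hodd
  have : IsCyclic (commutator H) := IsZGroup.isCyclic_commutator H
  rw [hperf] at this
  have : IsCyclic H := topEquiv.isCyclic.1 this
  have hb : commutator H = ⊥ := by
    rw [_root_.commutator_def, eq_bot_iff, commutator_le]
    intro a _ b _
    let _ : CommGroup H := IsCyclic.commGroup
    rw [mem_bot, commutatorElement_eq_one_iff_mul_comm]
    exact mul_comm a b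
  rw [← card_top (G := H), ← hperf, hb, card_bot]

theorem not_hyp_alt_seven : ¬ Hyp (alternatingGroup (Fin 7)) := by
  intro h
  let a : alternatingGroup (Fin 7) :=
    ⟨Equiv.swap 0 1 * Equiv.swap 1 2, Equiv.Perm.mem_alternatingGroup.2 (by decide)⟩
  let b : alternatingGroup (Fin 7) :=
    ⟨Equiv.swap 3 4 * Equiv.swap 4 5, Equiv.Perm.mem_alternatingGroup.2 (by decide)⟩
  have ha : orderOf a = 3 := orderOf_eq_prime (p := 3) (by decide) (by decide)
  have hb : orderOf b = 3 := orderOf_eq_prime (p := 3) (by decide) (by decide)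
  obtain ⟨k, hk⟩ := Subgroup.mem_zpowers_iff.1
    (h.mem_zpowers Nat.prime_three (by norm_num) ha hb (by decide : a * b = b * a))
  rw [← zpow_mod_orderOf, ha] at hk
  have : k % ((3 : ℕ) : ℤ) = 0 ∨ k % ((3 : ℕ) : ℤ) = 1 ∨ k % ((3 : ℕ) : ℤ) = 2 := by omega
  rcases this with e | e | e <;> rw [e] at hk <;> revert hk <;> decide

/-- The upper unitriangular hom into `SL₂`. -/
def upperUnit (F : Type*) [Field F] : Multiplicative F →* Matrix.SpecialLinearGroup (Fin 2) F where
  toFun a := ⟨!![1, Multiplicative.toAdd a; 0, 1], by simp [Matrix.det_fin_two]⟩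
  map_one' := by
    apply Matrix.SpecialLinearGroup.ext
    intro i j
    fin_cases i <;> fin_cases j <;> simp
  map_mul' a b := by
    apply Subtype.ext
    show !![1, Multiplicative.toAdd (a * b); 0, 1] =
      !![1, Multiplicative.toAdd a; 0, 1] * !![1, Multiplicative.toAdd b; 0, 1]
    rw [Matrix.mul_fin_two, toAdd_mul]
    simp [add_comm]

theorem upperUnit_proj_injective (F : Type*) [Field F] :
    Function.Injective ((QuotientGroup.mk' (center (Matrix.SpecialLinearGroup (Fin 2) F))).comp
      (upperUnit F)) := by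
  refine (injective_iff_map_eq_one _).2 fun a ha => ?_
  have hc := (QuotientGroup.eq_one_iff _).1 ha
  obtain ⟨r, -, hr⟩ := Matrix.SpecialLinearGroup.mem_center_iff.1 hc
  have h01 := congrArg (fun M : Matrix (Fin 2) (Fin 2) F => M 0 1) hr
  have h0 : Multiplicative.toAdd a = 0 := by
    simp [Matrix.scalar_apply] at h01
    exact h01.symm
  exact Multiplicative.toAdd.injective (h0.trans toAdd_one.symm)

/-- A field whose additive group embeds in a group with the hypothesis is a prime field. -/
theorem prime_of_embedding {X : Type*} [Group X] [Finite X] (h : Hyp X) {F : Type*} [Field F]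
    [Fintype F] (hodd : Odd (Fintype.card F)) (f : Multiplicative F →* X) (hf : Function.Injective f) :
    (Fintype.card F).Prime := by
  obtain ⟨p, hcp, n, hp, hcard⟩ := FiniteField.card' F
  have := Fact.mk hp
  have hpow : ∀ x : Multiplicative F, x ^ p = 1 := fun x => by
    apply Multiplicative.toAdd.injective
    rw [toAdd_pow, toAdd_one, nsmul_eq_mul, CharP.cast_eq_zero F p, zero_mul]
  have hp2 : p ≠ 2 := by
    rintro rfl
    exact absurd (Nat.odd_iff.1 hodd) (by
      rw [hcard]; have := dvd_pow_self 2 n.ne_zero; omega)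
  have hc : IsCyclic f.range := h.odd p hp hp2 _ (fun x => ⟨1, by
    obtain ⟨y, hy⟩ := x.2
    apply Subtype.ext
    rw [pow_one, coe_pow, ← hy, ← map_pow, hpow, map_one]
    rfl⟩)
  obtain ⟨g, hg⟩ := hc.exists_generator
  have hle : Fintype.card F ≤ p := by
    rw [← Nat.card_eq_fintype_card, ← Nat.card_congr (Multiplicative.toAdd (α := F)),
      Nat.card_congr (MonoidHom.ofInjective hf).toEquiv]
    calc Nat.card f.range = orderOf g := by
          rw [← Nat.card_zpowers, (Subgroup.eq_top_iff' _).2 hg, card_top]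
      _ ≤ p := by
          obtain ⟨y, hy⟩ := g.2
          refine orderOf_le_of_pow_eq_one hp.pos (Subtype.ext ?_)
          rw [coe_pow, ← hy, ← map_pow, hpow, map_one]
          rfl
  have : Fintype.card F = p := le_antisymm hle (hcard ▸ Nat.le_self_pow n.ne_zero p)
  rw [this]; exact hp

/-- A perfect group of this kind with semidihedral Sylow subgroups is simple. -/
theorem simple_of_quasiDihedral (h : Hyp H) (hperf : commutator H = ⊤) (hne : Nat.card H ≠ 1) (S : Sylow 2 H)
    (hQ : IsQuasiDihedral (S : Subgroup H)) : IsSimpleGroup H ∧ ¬ IsMulCommutative H := by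
  have hO := oddCore_eq_bot h hperf
  let eO : H ⧸ oddCore H ≃* H := (QuotientGroup.quotientMulEquivOfEq hO).trans QuotientGroup.quotientBot
  obtain ⟨L, hLn, hLodd, hLs, hLna⟩ :=
    Cfsg.Agent.S1214.result S (Or.inl hQ) (fun M => no_index_two_of_perfect hperf M)
  have hpO : commutator (H ⧸ oddCore H) = ⊤ :=
    commutator_top_map hperf _ (QuotientGroup.mk'_surjective _)
  have hq : Hyp ((H ⧸ oddCore H) ⧸ L) :=
    (h.of_surjective _ (QuotientGroup.mk'_surjective (oddCore H))).of_surjective _
      (QuotientGroup.mk'_surjective L)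
  have h1 := card_eq_one_of_odd hq (commutator_top_map hpO _ (QuotientGroup.mk'_surjective L))
    (by rw [← index_eq_card]; exact hLodd)
  rw [← index_eq_card, index_eq_one] at h1
  subst h1
  let eL : (⊤ : Subgroup (H ⧸ oddCore H)) ≃* H := topEquiv.trans eO
  have : Nontrivial H := Finite.one_lt_card_iff_nontrivial.1
    (by have := Nat.card_pos (α := H); omega)
  have : IsSimpleGroup H := IsSimpleGroup.isSimpleGroup_of_surjective eL.toMonoidHom eL.surjective
  refine ⟨this, fun hc => hLna ⟨⟨fun a b => eL.injective ?_⟩⟩⟩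
  rw [map_mul, map_mul]
  exact hc.is_comm.comm _ _

/-- **Perfect groups with almost cyclic Sylow subgroups.** -/
theorem perfect_classify (hX : NoSemidihedral.{u}) (h : Hyp H) (hperf : commutator H = ⊤)
    (hne : Nat.card H ≠ 1) :
    ∃ (p : ℕ) (_ : Fact p.Prime), 5 ≤ p ∧
      (Nonempty (H ≃* Matrix.ProjectiveSpecialLinearGroup (Fin 2) (ZMod p)) ∨
       Nonempty (H ≃* Matrix.SpecialLinearGroup (Fin 2) (ZMod p))) := by
  have : Fact (Nat.Prime 2) := ⟨Nat.prime_two⟩
  have hev : Even (Nat.card H) := by
    by_contra ho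
    exact hne (card_eq_one_of_odd h hperf (Nat.not_even_iff_odd.1 ho))
  have hO := oddCore_eq_bot h hperf
  let eO : H ⧸ oddCore H ≃* H := (QuotientGroup.quotientMulEquivOfEq hO).trans QuotientGroup.quotientBot
  have : Group.IsPerfect H := ⟨hperf⟩
  obtain ⟨S⟩ := (inferInstance : Nonempty (Sylow 2 H))
  rcases sylow_type h hperf hev S with ⟨n, hn, hD⟩ | hr | hQ
  · rcases GW.Final.gwStatement H S n hn hD with ⟨F, _, _, hodd, h3, ⟨e⟩⟩ | ⟨⟨e⟩⟩
    · let e' := eO.symm.trans e
      have hp : (Fintype.card F).Prime := prime_of_embedding h hodd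
        (e'.symm.toMonoidHom.comp ((QuotientGroup.mk' _).comp (upperUnit F)))
        (e'.symm.injective.comp (upperUnit_proj_injective F))
      have := Fact.mk hp
      refine ⟨Fintype.card F, ‹_›, ?_, Or.inl ⟨e'.trans
        (Classical.Dickson.pslCongr (ZMod.ringEquivOfPrime F hp rfl)).symm⟩⟩
      obtain ⟨k, hk⟩ := hodd
      omega
    · exact absurd (h.of_surjective (eO.symm.trans e).toMonoidHom (MulEquiv.surjective _)) not_hyp_alt_seven
  · rcases GW.Deps.perfect_rank_one GW.Final.gwStatement ‹Group.IsPerfect H› hr hev with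
      ⟨F, _, _, hodd, h3, ⟨e⟩⟩ | hA
    · let e' := eO.symm.trans e
      have hinj : Function.Injective (upperUnit F) :=
        Function.Injective.of_comp (upperUnit_proj_injective F)
      have hp : (Fintype.card F).Prime := prime_of_embedding h hodd
        (e'.symm.toMonoidHom.comp (upperUnit F)) (e'.symm.injective.comp hinj)
      have := Fact.mk hp
      refine ⟨Fintype.card F, ‹_›, ?_, Or.inr ⟨e'.trans
        (Classical.Dickson.slCongr (ZMod.ringEquivOfPrime F hp rfl)).symm⟩⟩
      obtain ⟨k, hk⟩ := hodd
      omega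
    · obtain ⟨-, ⟨e⟩, -⟩ := hA
      exact absurd (h.of_surjective (e.toMonoidHom.comp ((QuotientGroup.mk' (center (H ⧸ oddCore H))).comp
        (QuotientGroup.mk' (oddCore H))))
        (e.surjective.comp ((QuotientGroup.mk'_surjective _).comp (QuotientGroup.mk'_surjective _))))
        not_hyp_alt_seven
  · exfalso
    obtain ⟨hs, hna⟩ := simple_of_quasiDihedral h hperf hne S hQ
    exact hX H hna h S hQ

end CfsgLib.AlmostCyclic
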