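import Mathlib.GroupTheory.Transfer
import Mathlib.GroupTheory.IndexNormal
import Mathlib.GroupTheory.Sylow
import Mathlib.GroupTheory.SpecificGroups.Cyclic

/-!
# A transfer criterion by element orders (owner: helper7)

If the elements of greatest order of a Sylow 2-subgroup are exactly those outside a subgroup of index
two, the group has a normal subgroup of index two.
-/

set_option autoImplicit false

namespace CfsgLib.AlmostCyclic

open Subgroup
open scoped IsMulCommutative

variable {G : Type*} [Group G] [Finite G]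

theorem exists_index_two_of_orders (P : Sylow 2 G) (Q : Subgroup G) (hQi : Q.relIndex (P : Subgroup G) = 2)
    {u : G} {k : ℕ} (hu : orderOf u = 2 ^ k) (houter : ∀ x ∈ (P : Subgroup G), orderOf x = 2 ^ k → x ∉ Q)
    (hinner : ∀ x ∈ (P : Subgroup G), orderOf x < 2 ^ k → x ∈ Q) :
    ∃ M : Subgroup G, M.Normal ∧ M.index = 2 ∧ u ∉ M := by
  classical
  have : Fact (Nat.Prime 2) := ⟨Nat.prime_two⟩
  have : (Q.subgroupOf (P : Subgroup G)).Normal := Subgroup.normal_of_index_eq_two hQi
  have hcard : Nat.card ((P : Subgroup G) ⧸ Q.subgroupOf (P : Subgroup G)) = 2 := by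
    rw [← index_eq_card]; exact hQi
  let _ : CommGroup ((P : Subgroup G) ⧸ Q.subgroupOf (P : Subgroup G)) :=
    haveI := isCyclic_of_prime_card hcard
    IsCyclic.commGroup
  set ϕ := QuotientGroup.mk' (Q.subgroupOf (P : Subgroup G))
  obtain ⟨c, hc, hcu⟩ : ∃ c : (P : Subgroup G) ⧸ Q.subgroupOf (P : Subgroup G), c ≠ 1 ∧
      ∀ d, d ≠ 1 → d = c := by
    obtain ⟨a, b, hab, huniv⟩ := Nat.card_eq_two_iff.mp hcard
    have hall : ∀ d, d = a ∨ d = b := fun d => by
      have hd : d ∈ ({a, b} : Set _) := huniv ▸ Set.mem_univ d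
      simpa using hd
    rcases hall 1 with h | h
    · exact ⟨b, fun h' => hab (h.symm.trans h'.symm),
        fun d hd => (hall d).resolve_left fun hda => hd (hda.trans h.symm)⟩
    · exact ⟨a, fun h' => hab (h'.trans h),
        fun d hd => (hall d).resolve_right fun hdb => hd (hdb.trans h.symm)⟩
  have hc2 : c ^ 2 = 1 := by
    have h := pow_card_eq_one' (x := c)
    rwa [hcard] at h
  have : Fintype (Quotient (MulAction.orbitRel (zpowers u) (G ⧸ (P : Subgroup G)))) := Fintype.ofFinite _
  have key : MonoidHom.transfer ϕ u = c ^ (P : Subgroup G).index := by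
    rw [MonoidHom.transfer_eq_prod_quotient_orbitRel_zpowers_quot,
      index_eq_sum_minimalPeriod (P : Subgroup G) u, ← Finset.prod_pow_eq_pow_sum]
    refine Finset.prod_congr rfl fun q _ => ?_
    set l := Function.minimalPeriod (u • ·) q.out with hl
    have hdvd : l ∣ 2 ^ k := by
      refine Function.IsPeriodicPt.minimalPeriod_dvd ?_
      show (u • ·)^[2 ^ k] q.out = q.out
      rw [smul_iterate_apply, ← hu, pow_orderOf_eq_one, one_smul]
    obtain ⟨j, -, hj⟩ := (Nat.dvd_prime_pow Nat.prime_two).1 hdvd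
    have hmem : q.out.out⁻¹ * u ^ l * q.out.out ∈ (P : Subgroup G) :=
      QuotientGroup.out_conj_pow_minimalPeriod_mem (P : Subgroup G) u q.out
    have hord : orderOf (q.out.out⁻¹ * u ^ l * q.out.out) = orderOf (u ^ l) := by
      conv_lhs => rw [show q.out.out⁻¹ * u ^ l * q.out.out = MulAut.conj q.out.out⁻¹ (u ^ l) by
        rw [MulAut.conj_apply, inv_inv]]
      exact MulEquiv.orderOf_eq _ _
    show ϕ ⟨q.out.out⁻¹ * u ^ l * q.out.out, hmem⟩ = c ^ l
    rcases Nat.eq_zero_or_pos j with rfl | hj0
    · conv_rhs => rw [hj, pow_zero, pow_one]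
      refine hcu _ fun h1 => ?_
      have h2 := mem_subgroupOf.mp ((QuotientGroup.eq_one_iff _).mp h1)
      refine houter _ hmem ?_ h2
      rw [hord, hj, pow_zero, pow_one, hu]
    · have he : c ^ l = 1 := by
        rw [hj, show j = j - 1 + 1 by omega, pow_succ', pow_mul, hc2, one_pow]
      conv_rhs => rw [he]
      refine (QuotientGroup.eq_one_iff _).mpr (mem_subgroupOf.mpr (hinner _ hmem ?_))
      rw [hord, orderOf_pow' _ (by rw [hj]; positivity), hu]
      refine Nat.div_lt_self (by positivity) ?_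
      rw [Nat.gcd_eq_right hdvd, hj]
      exact Nat.one_lt_two_pow (by omega)
  have hodd : (P : Subgroup G).index % 2 = 1 := by
    have := P.not_dvd_index
    omega
  have hTu : MonoidHom.transfer ϕ u ≠ 1 := by
    rw [key, ← Nat.div_add_mod (P : Subgroup G).index 2, hodd, pow_add, pow_mul, hc2, one_pow,
      one_mul, pow_one]
    exact hc
  refine ⟨(MonoidHom.transfer ϕ).ker, inferInstance, ?_, hTu⟩
  rw [index_ker]
  rcases (Nat.dvd_prime Nat.prime_two).mp
    (hcard ▸ card_subgroup_dvd_card (MonoidHom.transfer ϕ).range) with h | h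
  · exfalso
    have h' := card_eq_one.mp h
    rw [MonoidHom.range_eq_bot_iff] at h'
    exact hTu (by rw [h']; rfl)
  · exact h

end CfsgLib.AlmostCyclic
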