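import Cfsg.Agent.Lib.AlmostCyclic.Basic
import Cfsg.Agent.Lib.AlmostCyclic.Transfer
import Cfsg.Agent.Lib.PGroups.CyclicIndex
import Cfsg.Agent.Lib.TwoGroups.Recognition
import Cfsg.Agent.Lib.TwoGroups.Closed
import Cfsg.Agent.Lib.Signalizer.Count
import Cfsg.Prelude.Def_CaseTheorems

/-!
# Sylow 2-subgroups of perfect groups with almost cyclic Sylow subgroups (owner: helper7)

They are dihedral (four-groups included), of rank one, or semidihedral.
-/

set_option autoImplicit false

namespace CfsgLib.AlmostCyclic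

open Subgroup Cfsg

variable {H : Type*} [Group H] [Finite H]

omit [Finite H] in
theorem no_index_two_of_perfect (hperf : commutator H = ⊤) (M : Subgroup H) : M.index ≠ 2 := fun hM => by
  have : M.Normal := normal_of_index_eq_two hM
  have : IsCyclic (H ⧸ M) := isCyclic_of_prime_card (p := 2) (by rw [← index_eq_card, hM])
  let _ : CommGroup (H ⧸ M) := IsCyclic.commGroup
  have hle : commutator H ≤ M := Subgroup.Normal.quotient_commutative_iff_commutator_le.1 inferInstance
  rw [hperf, top_le_iff] at hle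
  rw [hle, index_top] at hM
  omega

/-- A split extension of a cyclic group with `b` near-centralising is not a Sylow subgroup of a perfect group. -/
theorem not_perfect_split (hperf : commutator H = ⊤) (S : Sylow 2 H) {a b : (S : Subgroup H)} {k : ℕ} (hk : 1 ≤ k)
    (ha : orderOf a = 2 ^ (k + 1)) (hb : b * b = 1) (hba : b ∉ zpowers a) (hidx : (zpowers a).index = 2) {r : ℤ}
    (hr : b * a * b⁻¹ = a ^ r) (hr1 : (2 : ℤ) ^ k ∣ r - 1) (hr4 : (4 : ℤ) ∣ r - 1) : False := by
  have hint : ∀ {x : ℤ}, (2 : ℤ) ^ (k + 1) ∣ x → a ^ x = 1 := fun {x} h =>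
    orderOf_dvd_iff_zpow_eq_one.1 (by rw [ha]; exact_mod_cast h)
  have hconj : ∀ x : ℤ, b * a ^ x * b⁻¹ = a ^ (r * x) := fun x => by rw [← conj_zpow, hr, ← zpow_mul]
  have hcent : ∀ x : ℤ, Commute b (a ^ (2 * x)) := fun x => by
    refine mul_inv_eq_iff_eq_mul.1 ?_
    obtain ⟨c, hc⟩ := hr1
    rw [hconj, show r * (2 * x) = 2 * x + 2 ^ (k + 1) * (c * x) by
      rw [pow_succ]; linear_combination (2 * x) * hc, zpow_add, hint (dvd_mul_right _ _), mul_one]
  have hbinv : b⁻¹ = b := inv_eq_of_mul_eq_one_right hb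
  -- the subgroup of the even elements
  let Q₀ : Subgroup (S : Subgroup H) := zpowers (a ^ (2 : ℤ)) ⊔ zpowers b
  have hQmem : ∀ x ∈ Q₀, ∃ i : ℤ, x = a ^ (2 * i) ∨ x = a ^ (2 * i) * b := by
    intro x hx
    rw [show Q₀ = closure ({a ^ (2 : ℤ), b} : Set (S : Subgroup H)) by
      rw [Set.insert_eq, Subgroup.closure_union, ← zpowers_eq_closure, ← zpowers_eq_closure]] at hx
    induction hx using closure_induction with
    | mem x hx =>
      rcases hx with rfl | rfl
      · exact ⟨1, Or.inl (by rw [mul_one])⟩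
      · exact ⟨0, Or.inr (by rw [mul_zero, zpow_zero, one_mul])⟩
    | one => exact ⟨0, Or.inl (by rw [mul_zero, zpow_zero])⟩
    | mul x y _ _ ex ey =>
      obtain ⟨i, hi⟩ := ex
      obtain ⟨j, hj⟩ := ey
      rcases hi with rfl | rfl <;> rcases hj with rfl | rfl
      · exact ⟨i + j, Or.inl (by rw [mul_add, zpow_add])⟩
      · exact ⟨i + j, Or.inr (by rw [mul_add, zpow_add, mul_assoc])⟩
      · exact ⟨i + j, Or.inr (by rw [mul_assoc, (hcent j).eq, ← mul_assoc, mul_add, zpow_add])⟩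
      · refine ⟨i + j, Or.inl ?_⟩
        rw [mul_assoc, ← mul_assoc b, (hcent j).eq, mul_assoc (a ^ (2 * j)), hb, mul_one, mul_add, zpow_add]
    | inv x _ ex =>
      obtain ⟨i, hi⟩ := ex
      rcases hi with rfl | rfl
      · exact ⟨-i, Or.inl (by rw [← zpow_neg, mul_neg])⟩
      · refine ⟨-i, Or.inr ?_⟩
        rw [mul_inv_rev, hbinv, ← zpow_neg, mul_neg, ← mul_neg, (hcent (-i)).eq]
  have hQord : ∀ x ∈ Q₀, orderOf x < 2 ^ (k + 1) := by
    intro x hx
    have h2 : ∀ i : ℤ, (a ^ (2 * i)) ^ (2 ^ k) = 1 := fun i => by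
      rw [← zpow_natCast, ← zpow_mul]; exact hint ⟨i, by push_cast; ring⟩
    have hb2 : b ^ (2 ^ k) = 1 := by
      rw [show 2 ^ k = 2 * 2 ^ (k - 1) by rw [← pow_succ']; congr 1; omega, pow_mul, pow_two, hb, one_pow]
    have hpow : x ^ (2 ^ k) = 1 := by
      obtain ⟨i, rfl | rfl⟩ := hQmem x hx
      · exact h2 i
      · rw [(hcent i).symm.mul_pow, h2, hb2, one_mul]
    calc orderOf x ≤ 2 ^ k := orderOf_le_of_pow_eq_one (by positivity) hpow
      _ < 2 ^ (k + 1) := Nat.pow_lt_pow_right one_lt_two (by omega)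
  have hcases : ∀ x : (S : Subgroup H), ∃ i : ℤ, x = a ^ i ∨ x = a ^ i * b := by
    intro x
    by_cases hx : x ∈ zpowers a
    · obtain ⟨i, hi⟩ := mem_zpowers_iff.1 hx
      exact ⟨i, Or.inl hi.symm⟩
    · obtain ⟨i, hi⟩ := mem_zpowers_iff.1 ((mul_mem_iff_of_index_two hidx).2 ⟨fun h => absurd h hx, fun h => absurd h hba⟩ :
        x * b ∈ zpowers a)
      exact ⟨i, Or.inr (by rw [hi, mul_assoc, hb, mul_one])⟩
  have hout : ∀ x, x ∉ Q₀ → orderOf x = 2 ^ (k + 1) := by
    intro x hx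
    have h2Q : ∀ i : ℤ, a ^ (2 * i) ∈ Q₀ := fun i => by
      rw [zpow_mul]; exact zpow_mem (mem_sup_left (mem_zpowers _)) i
    have : Fact (Nat.Prime 2) := ⟨Nat.prime_two⟩
    obtain ⟨i, hi⟩ := hcases x
    have hiodd : Odd i := by
      by_contra heven
      obtain ⟨j, rfl⟩ := Int.not_odd_iff_even.1 heven
      rw [← two_mul] at hi
      rcases hi with rfl | rfl
      exacts [hx (h2Q j), hx (mul_mem (h2Q j) (mem_sup_right (mem_zpowers b)))]
    obtain ⟨j, rfl⟩ := hiodd
    have hsmall : ¬ (2 : ℤ) ^ (k + 1) ∣ (2 * j + 1) * 2 ^ k := fun h => by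
      rw [pow_succ', mul_comm (2 * j + 1)] at h
      rw [mul_comm (2 : ℤ)] at h
      have := Int.dvd_of_mul_dvd_mul_left (pow_ne_zero _ two_ne_zero) h
      omega
    apply orderOf_eq_prime_pow
    · rcases hi with rfl | rfl
      · rw [← zpow_natCast, ← zpow_mul]
        intro h
        have h' := orderOf_dvd_iff_zpow_eq_one.2 h
        rw [ha] at h'
        exact hsmall (by exact_mod_cast h')
      · rw [show 2 ^ k = 2 * 2 ^ (k - 1) by rw [← pow_succ']; congr 1; omega, pow_mul, pow_two,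
          show a ^ (2 * j + 1) * b * (a ^ (2 * j + 1) * b) = a ^ (2 * j + 1) * (b * a ^ (2 * j + 1) * b⁻¹) * (b * b) by
            group, hb, mul_one, hconj, ← zpow_add, ← zpow_natCast, ← zpow_mul]
        intro h
        have h' := orderOf_dvd_iff_zpow_eq_one.2 h
        rw [ha] at h'
        obtain ⟨c, hc⟩ := hr4
        have hk' : (2 : ℤ) ^ k = 2 * 2 ^ (k - 1) := by rw [← pow_succ']; congr 1; omega
        push_cast at h'
        rw [show (2 * j + 1 + r * (2 * j + 1)) * 2 ^ (k - 1) = (2 * c + 1) * ((2 * j + 1) * 2 ^ k) by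
          rw [hk']; linear_combination ((2 * j + 1) * 2 ^ (k - 1)) * hc] at h'
        exact hsmall ((IsCoprime.pow_left ⟨-c, 1, by ring⟩).dvd_of_dvd_mul_left h')
    · rcases hi with rfl | rfl
      · rw [← zpow_natCast, ← zpow_mul]
        exact hint ⟨2 * j + 1, by push_cast; ring⟩
      · rw [show 2 ^ (k + 1) = 2 * 2 ^ k by rw [pow_succ'], pow_mul, pow_two,
          show a ^ (2 * j + 1) * b * (a ^ (2 * j + 1) * b) = a ^ (2 * j + 1) * (b * a ^ (2 * j + 1) * b⁻¹) * (b * b) by
            group, hb, mul_one, hconj, ← zpow_add, ← zpow_natCast, ← zpow_mul]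
        obtain ⟨c, hc⟩ := hr4
        exact hint ⟨(2 * j + 1) * (2 * c + 1), by push_cast; linear_combination (2 ^ k * (2 * j + 1)) * hc⟩
  have haQ : a ∉ Q₀ := fun h => by
    have := hQord a h
    rw [ha] at this
    exact lt_irrefl _ this
  have hQidx : Q₀.index = 2 := by
    refine index_eq_two_iff.2 ⟨a, fun x => ?_⟩
    have h2Q : ∀ i : ℤ, a ^ (2 * i) ∈ Q₀ := fun i => by
      rw [zpow_mul]; exact zpow_mem (mem_sup_left (mem_zpowers _)) i
    obtain ⟨i, hi⟩ := hcases x
    have hbQ : b ∈ Q₀ := mem_sup_right (mem_zpowers b)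
    rcases Int.even_or_odd' i with ⟨j, rfl | rfl⟩
    · have hxQ : x ∈ Q₀ := by
        rcases hi with rfl | rfl
        exacts [h2Q j, mul_mem (h2Q j) hbQ]
      exact Or.inr ⟨hxQ, fun h => haQ ((mul_mem_cancel_left hxQ).1 h)⟩
    · refine Or.inl ⟨?_, fun h => haQ ?_⟩
      · rcases hi with rfl | rfl
        · rw [← zpow_add_one, show 2 * j + 1 + 1 = 2 * (j + 1) by ring]
          exact h2Q _
        · rw [show a ^ (2 * j + 1) * b * a = a ^ (2 * j + 1) * (b * a * b⁻¹) * b by group, hr, ← zpow_add]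
          obtain ⟨c, hc⟩ := hr4
          rw [show 2 * j + 1 + r = 2 * (j + 1 + 2 * c) by linear_combination hc]
          exact mul_mem (h2Q _) hbQ
      · rcases hi with rfl | rfl
        · rw [zpow_add, zpow_one] at h
          exact (mul_mem_cancel_left (h2Q j)).1 h
        · rw [zpow_add, zpow_one, mul_assoc] at h
          exact (mul_mem_cancel_right hbQ).1 ((mul_mem_cancel_left (h2Q j)).1 h)
  obtain ⟨M, -, hM, -⟩ := exists_index_two_of_orders S (Q₀.map (S : Subgroup H).subtype)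
    (by rw [relIndex, subgroupOf, comap_map_eq_self_of_injective (S : Subgroup H).subtype_injective, hQidx])
    (u := (a : H)) (k := k + 1) (by rw [Subgroup.orderOf_coe, ha])
    (fun x hx hord h => by
      obtain ⟨y, hy, rfl⟩ := h
      have := hQord y hy
      rw [Subgroup.coe_subtype, Subgroup.orderOf_coe] at hord
      omega)
    (fun x hx hord => by
      refine ⟨⟨x, hx⟩, by_contra fun h => ?_, rfl⟩
      have := hout _ h
      rw [Subgroup.orderOf_mk] at this
      omega)
  exact no_index_two_of_perfect hperf M hM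

/-- A Sylow subgroup with one involution gives 2-rank one. -/
theorem rank_one_of_unique (S : Sylow 2 H) {z : H}
    (hu : ∀ x ∈ (S : Subgroup H), x * x = 1 → x = 1 ∨ x = z) : PRankLE 2 1 H := by
  intro A _ hA
  have : Fact (Nat.Prime 2) := ⟨Nat.prime_two⟩
  have hP : IsPGroup 2 A := fun x => ⟨1, Subtype.ext (by rw [pow_one, coe_pow]; exact hA x x.2)⟩
  obtain ⟨g, hg⟩ := TwoGroups.exists_conj_le_sylow S hP
  have hsub : ∀ a : A, g * (a : H) * g⁻¹ = 1 ∨ g * (a : H) * g⁻¹ = z := fun a =>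
    hu _ (hg ⟨a, a.2, rfl⟩) (by
      rw [show g * (a : H) * g⁻¹ * (g * a * g⁻¹) = g * ((a : H) * a) * g⁻¹ by group, ← pow_two, hA a a.2]
      group)
  classical
  let f : A → Bool := fun a => decide (g * (a : H) * g⁻¹ = 1)
  have hf : Function.Injective f := fun a b e => by
    have hiff : g * (a : H) * g⁻¹ = 1 ↔ g * (b : H) * g⁻¹ = 1 := by simpa [f] using e
    have : g * (a : H) * g⁻¹ = g * (b : H) * g⁻¹ := by
      rcases hsub a with h1 | h1
      · rw [h1, hiff.1 h1]
      · rcases hsub b with h2 | h2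
        · rw [h2, hiff.2 h2]
        · rw [h1, h2]
    exact Subtype.ext (mul_left_cancel (mul_right_cancel this))
  calc Nat.card A ≤ Nat.card Bool := Nat.card_le_card_of_injective f hf
    _ = 2 ^ 1 := by simp

theorem sylow_type (h : Hyp H) (hperf : commutator H = ⊤) (hev : Even (Nat.card H)) (S : Sylow 2 H) :
    (∃ n, 2 ≤ n ∧ Nonempty ((S : Subgroup H) ≃* DihedralGroup n)) ∨ PRankLE 2 1 H ∨
      IsQuasiDihedral (S : Subgroup H) := by
  classical
  have : Fact (Nat.Prime 2) := ⟨Nat.prime_two⟩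
  have hnc : ¬ IsCyclic (S : Subgroup H) := fun hc => by
    obtain ⟨M, hM⟩ := Signalizer.index_two_of_cyclic_sylow hev S hc
    exact no_index_two_of_perfect hperf M hM
  obtain ⟨C, hC, hi⟩ := h.two _ S.isPGroup'
  rcases (Nat.dvd_prime Nat.prime_two).1 hi with hi | hi
  · rw [index_eq_one] at hi
    subst hi
    exact absurd (topEquiv.isCyclic.1 hC) hnc
  obtain ⟨n, hn⟩ := IsPGroup.iff_card.1 S.isPGroup'
  have hn2 : 2 ≤ n := by
    by_contra hlt
    refine hnc ?_
    rcases n with _ | _ | n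
    · have : Subsingleton (S : Subgroup H) := (Nat.card_eq_one_iff_unique.1 (by rw [hn, pow_zero])).1
      infer_instance
    · exact isCyclic_of_prime_card (p := 2) (by rw [hn, pow_one])
    · omega
  obtain ⟨hCn, a, rfl, ha⟩ := PGroups.CyclicIndex.setup hn2 hn hC hi
  by_cases hab : ∀ x y : (S : Subgroup H), x * y = y * x
  · obtain ⟨b₀, hb₀⟩ : ∃ b, b ∉ zpowers a := by
      by_contra hall
      push Not at hall
      exact hnc ⟨a, fun x => hall x⟩
    obtain ⟨i, hi'⟩ := mem_zpowers_iff.1 (show b₀ ^ 2 ∈ zpowers a by have := (zpowers a).pow_index_mem b₀; rwa [hi] at this)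
    have heven : Even i := by
      by_contra hodd
      obtain ⟨j, rfl⟩ := Int.not_even_iff_odd.1 hodd
      refine hnc ⟨b₀, fun x => ?_⟩
      have ha' : a ∈ zpowers b₀ := by
        have h1 : a ^ (2 * j + 1) ∈ zpowers b₀ := hi' ▸ pow_mem (mem_zpowers b₀) 2
        have hco : IsCoprime (2 * j + 1) (orderOf a : ℤ) := by
          rw [ha]; push_cast
          exact IsCoprime.pow_right ⟨1, -j, by ring⟩
        obtain ⟨u, v, huv⟩ := hco
        have h2 : (a ^ (2 * j + 1)) ^ u = a := by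
          rw [← zpow_mul, show (2 * j + 1) * u = 1 - (orderOf a : ℤ) * v by linear_combination huv, zpow_sub,
            zpow_one, zpow_mul, zpow_natCast, pow_orderOf_eq_one, one_zpow, inv_one, mul_one]
        exact h2 ▸ zpow_mem h1 u
      by_cases hx : x ∈ zpowers a
      · exact (zpowers_le.2 ha') hx
      · have hxb : x * b₀ ∈ zpowers a :=
          (mul_mem_iff_of_index_two hi).2 ⟨fun h => absurd h hx, fun h => absurd h hb₀⟩
        have := mul_mem ((zpowers_le.2 ha') hxb) (inv_mem (mem_zpowers b₀))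
        rwa [mul_inv_cancel_right] at this
    obtain ⟨j, rfl⟩ := heven
    set b := b₀ * a ^ (-j) with hbdef
    have hb : b * b = 1 := by
      rw [hbdef, show b₀ * a ^ (-j) * (b₀ * a ^ (-j)) = b₀ ^ 2 * (a ^ (-j) * a ^ (-j)) by
        rw [pow_two, mul_assoc, ← mul_assoc (a ^ (-j)), hab (a ^ (-j)) b₀]; simp only [mul_assoc],
        ← hi', ← zpow_add, ← zpow_add, show j + j + (-j + -j) = 0 by ring, zpow_zero]
    have hba : b ∉ zpowers a := fun hm => hb₀ (by
      have := mul_mem hm (zpow_mem (mem_zpowers a) j)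
      rwa [hbdef, mul_assoc, ← zpow_add, neg_add_cancel, zpow_zero, mul_one] at this)
    have hconj : b * a * b⁻¹ = a := by rw [hab b a, mul_inv_cancel_right]
    rcases eq_or_lt_of_le hn2 with hn' | hn'
    · left
      refine ⟨2, le_rfl, TwoGroups.nonempty_mulEquiv_dihedralGroup (a := a) (b := b) ?_ hb hba ?_ ?_⟩
      · rw [ha, ← hn']; rfl
      · rw [hconj]
        refine (inv_eq_of_mul_eq_one_right ?_).symm
        have e : orderOf a = 2 := by rw [ha, ← hn']; rfl
        have h2 := pow_orderOf_eq_one a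
        rwa [e, pow_two] at h2
      · rw [hn, ← hn']; rfl
    · exfalso
      refine not_perfect_split hperf S (k := n - 2) (by omega) (by rw [ha]; congr 1; omega) hb hba hi (r := 1)
        (by rw [zpow_one]; exact hconj) ?_ ?_ <;> norm_num
  push Not at hab
  have hn3 : 3 ≤ n := by
    by_contra hlt
    obtain ⟨x, y, hxy⟩ := hab
    have : n = 2 := by omega
    subst this
    exact hxy ((IsPGroup.commGroupOfCardEqPrimeSq hn).mul_comm x y)
  obtain ⟨a, b, ha, hba, hcases⟩ := PGroups.CyclicIndex.two_classification hn3 hn hC hi hab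
  have hidx : (zpowers a).index = 2 := by
    have h1 := (zpowers a).card_mul_index
    rw [Nat.card_zpowers, ha, hn, show n = n - 1 + 1 by omega, pow_succ] at h1
    exact Nat.eq_of_mul_eq_mul_left (by positivity) h1
  rcases hcases with ⟨hb, hrel⟩ | ⟨hb, hrel⟩ | ⟨h4, hb, hrel⟩ | ⟨h4, hb, hrel⟩
  · left
    refine ⟨2 ^ (n - 1), Nat.le_self_pow (by omega) 2,
      TwoGroups.nonempty_mulEquiv_dihedralGroup ha (by rw [← pow_two, hb]) hba hrel ?_⟩
    rw [hn, ← pow_succ']; congr 1; omega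
  · right; left
    refine rank_one_of_unique S (z := ((a ^ 2 ^ (n - 2) : (S : Subgroup H)) : H)) fun x hx hxx => ?_
    have hx2 : (⟨x, hx⟩ : (S : Subgroup H)) * ⟨x, hx⟩ = 1 := Subtype.ext hxx
    by_cases hm : (⟨x, hx⟩ : (S : Subgroup H)) ∈ zpowers a
    · obtain ⟨i, hi⟩ := mem_zpowers_iff.1 hm
      rw [← hi, ← zpow_add, ← orderOf_dvd_iff_zpow_eq_one, ha] at hx2
      obtain ⟨c, hc⟩ := hx2
      have hi' : i = 2 ^ (n - 2) * c := by
        push_cast at hc
        rw [show n - 1 = n - 2 + 1 by omega, pow_succ] at hc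
        linarith
      have h1 : (⟨x, hx⟩ : (S : Subgroup H)) = (a ^ 2 ^ (n - 2)) ^ c := by
        rw [← hi, hi', zpow_mul, ← zpow_natCast a, Nat.cast_pow, Nat.cast_ofNat]
      have ho : orderOf (a ^ 2 ^ (n - 2)) = 2 := by
        rw [orderOf_pow' _ (by positivity), ha, show n - 1 = n - 2 + 1 by omega, pow_succ,
          Nat.gcd_mul_right_left, Nat.mul_div_cancel_left _ (by positivity)]
      rw [← zpow_mod_orderOf, ho] at h1
      rcases Int.emod_two_eq c with e | e <;> simp only [Nat.cast_ofNat, e, zpow_zero, zpow_one] at h1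
      · exact Or.inl (congrArg Subtype.val h1)
      · exact Or.inr (congrArg Subtype.val h1)
    · exfalso
      have hxb : (⟨x, hx⟩ : (S : Subgroup H)) * b ∈ zpowers a :=
        (mul_mem_iff_of_index_two hidx).2 ⟨fun h => absurd h hm, fun h => absurd h hba⟩
      obtain ⟨i, hi⟩ := mem_zpowers_iff.1 hxb
      have h1 : (⟨x, hx⟩ : (S : Subgroup H)) = a ^ i * b⁻¹ := by rw [hi, mul_inv_cancel_right]
      rw [h1, show a ^ i * b⁻¹ * (a ^ i * b⁻¹) = a ^ i * (b * (b⁻¹ * b⁻¹) * a ^ i * b⁻¹) by group,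
        ← mul_inv_rev, ← pow_two] at hx2
      have hconj : ∀ y : ℤ, b * a ^ y * b⁻¹ = a ^ (-y) := fun y => by rw [← conj_zpow, hrel, inv_zpow, zpow_neg]
      rw [hb, show b * (a ^ 2 ^ (n - 2))⁻¹ * a ^ i * b⁻¹ = b * a ^ (-((2 ^ (n - 2) : ℕ) : ℤ) + i) * b⁻¹ by
        rw [zpow_add, zpow_neg, zpow_natCast, ← mul_assoc b], hconj, ← zpow_add,
        ← orderOf_dvd_iff_zpow_eq_one, ha, show i + -(-((2 ^ (n - 2) : ℕ) : ℤ) + i) = ((2 ^ (n - 2) : ℕ) : ℤ) by ring,
        Int.natCast_dvd_natCast] at hx2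
      exact absurd (Nat.le_of_dvd (by positivity) hx2) (not_le.2 (Nat.pow_lt_pow_right one_lt_two (by omega)))
  · exfalso
    refine not_perfect_split hperf S (k := n - 2) (by omega) (by rw [ha]; congr 1; omega) (by rw [← pow_two, hb])
      hba hidx (r := ((1 + 2 ^ (n - 2) : ℕ) : ℤ)) (by rw [zpow_natCast]; exact hrel) ?_ ?_
    · push_cast; simp
    · push_cast; rw [add_sub_cancel_left]
      exact ⟨2 ^ (n - 4), by rw [show n - 2 = 2 + (n - 4) by omega, pow_add]; norm_num⟩
  · right; right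
    refine ⟨n - 1, by omega, by rw [hn]; congr 1; omega, a, b, ha,
      orderOf_eq_prime hb (fun e => hba (e ▸ one_mem _)), ?_⟩
    rw [show n - 1 - 1 = n - 2 by omega]
    exact hrel

end CfsgLib.AlmostCyclic
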